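import Groth.Agent.GaetaGen.Vanish
import Groth.Agent.BlowReg.GG
import Groth.Agent.SuppZero.Basic

/-!
Global generation and vanishing of `H¹(E ⊗ W)` in dimension one.
-/

set_option autoImplicit false
set_option linter.unusedSectionVars false
set_option linter.style.haveILetI false
set_option backward.isDefEq.respectTransparency false

universe u

open CategoryTheory CategoryTheory.Limits AlgebraicGeometry
open Groth.Agent.QC (res resO res_res res_self res_smul section_eq_of_locally app_res)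
open TMul (tm homOf val_homOf val)
open Groth.Agent.CohFinite (tmap shortExact_toAb map_g_eq_zero_iff)

noncomputable section

namespace Groth.Agent.DefAmple

variable {X : Scheme.{u}}

/-- The family spans locally. -/
def Spans (G : X.Modules) (S : Set Γ(G, ⊤)) : Prop :=
  ∀ (U : X.Opens) (t : Γ(G, U)), ∀ x ∈ U, ∃ (V : X.Opens) (hV : V ≤ U), x ∈ V ∧
    res G hV t ∈ Submodule.span Γ(X, V) (res G (le_top : V ≤ ⊤) '' S)

lemma span_res {G : X.Modules} {S : Set Γ(G, ⊤)} {V W : X.Opens} (h : W ≤ V) {t : Γ(G, V)}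
    (ht : t ∈ Submodule.span Γ(X, V) (res G (le_top : V ≤ ⊤) '' S)) :
    res G h t ∈ Submodule.span Γ(X, W) (res G (le_top : W ≤ ⊤) '' S) := by
  induction ht using Submodule.span_induction with
  | mem y hy =>
    obtain ⟨s, hs, rfl⟩ := hy
    exact Submodule.subset_span ⟨s, hs, (res_res _ _ _ _).symm⟩
  | zero => rw [map_zero]; exact zero_mem _
  | add a b _ _ ha hb => rw [map_add]; exact add_mem ha hb
  | smul c a _ ha => rw [res_smul]; exact Submodule.smul_mem _ _ ha

/-- Spanning global sections give global generation. -/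
theorem isGG_of_spans {G : X.Modules} {S : Set Γ(G, ⊤)} (h : Spans G S) : Curv2.IsGloballyGenerated G := by
  let p : (SheafOfModules.free (R := X.ringCatSheaf) Γ(G, ⊤) : X.Modules) ⟶ G :=
    Sigma.desc fun t : Γ(G, ⊤) => (homOf t : SheafOfModules.unit X.ringCatSheaf ⟶ G)
  refine ⟨Γ(G, ⊤), p, InvGen.epi_of_locally p fun U t x hxU => ?_⟩
  obtain ⟨V, hV, hxV, hmem⟩ := h U t x hxU
  refine ⟨V, hV, hxV, ?_⟩
  generalize res G hV t = w at hmem ⊢
  induction hmem using Submodule.span_induction with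
  | mem y hy =>
    obtain ⟨g, -, rfl⟩ := hy
    let ι : Coh.structureModule X ⟶ (SheafOfModules.free (R := X.ringCatSheaf) Γ(G, ⊤) : X.Modules) :=
      Sigma.ι (fun _ : Γ(G, ⊤) => SheafOfModules.unit X.ringCatSheaf) g
    refine ⟨val ι V, ?_⟩
    rw [← TMul.val_comp]
    have hιp : ι ≫ p = homOf g := Sigma.ι_desc _ g
    rw [hιp, val_homOf]
  | zero => exact ⟨0, map_zero _⟩
  | add a b _ _ ha hb =>
    obtain ⟨u, hu⟩ := ha
    obtain ⟨v, hv⟩ := hb
    exact ⟨u + v, by rw [map_add, hu, hv]⟩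
  | smul c a _ ha =>
    obtain ⟨u, hu⟩ := ha
    exact ⟨c • u, by rw [TMul.app_smul, hu]⟩

/-- A globally generated module of finite type on a compact scheme is spanned by finitely many sections. -/
theorem exists_spans [CompactSpace X] {G : X.Modules} (hG : Coh.IsCoh G) (hgg : Curv2.IsGloballyGenerated G) :
    ∃ S : Finset Γ(G, ⊤), Spans G (S : Set Γ(G, ⊤)) := by
  classical
  haveI : G.IsQuasicoherent := hG.1
  have key : ∀ W : X.affineOpens, ∃ T : Finset Γ(G, ⊤),
      Submodule.span Γ(X, W.1) (res G (le_top : W.1 ≤ ⊤) '' (T : Set Γ(G, ⊤))) = ⊤ := fun W => by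
    have h : Submodule.span Γ(X, W.1) (Set.range (res G (le_top : W.1 ≤ ⊤))) = ⊤ := BlowReg.genOn_of_gg hgg W.2
    obtain ⟨g, hg⟩ := ((Groth.Agent.QC.isFT_iff_finite_sections (M := G)).mp hG.2 W).fg_top
    rw [← h] at hg
    obtain ⟨T, hT, hTspan⟩ := (Submodule.fg_span_iff_fg_span_finset_subset _).1 ⟨g, hg⟩
    choose f hf using fun y : T => hT y.2
    refine ⟨T.attach.image f, ?_⟩
    rw [← h, hTspan]
    refine congrArg _ (Set.ext fun y => ?_)
    simp only [Finset.coe_image, Set.mem_image, Finset.mem_coe, Finset.mem_attach, true_and]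
    constructor
    · rintro ⟨_, ⟨a, rfl⟩, rfl⟩
      rw [hf]
      exact a.2
    · exact fun hy => ⟨f ⟨y, hy⟩, ⟨⟨y, hy⟩, rfl⟩, hf _⟩
  choose T hT using key
  obtain ⟨c, hc⟩ := isCompact_univ.elim_finite_subcover (fun W : X.affineOpens => ((W : X.Opens) : Set X))
    (fun W => W.1.2) (fun x _ => by
      obtain ⟨W, hW, hx, -⟩ := exists_isAffineOpen_mem_and_subset (U := ⊤) (x := x) trivial
      exact Set.mem_iUnion.2 ⟨⟨W, hW⟩, hx⟩)
  refine ⟨c.biUnion T, fun U t x hxU => ?_⟩
  obtain ⟨W, hWc, hxW⟩ := Set.mem_iUnion₂.1 (hc (Set.mem_univ x))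
  obtain ⟨f, hf, hxf⟩ := W.2.exists_basicOpen_le ⟨x, hxU⟩ hxW
  refine ⟨X.basicOpen f, hf, hxf, ?_⟩
  have h := Groth.Agent.QC.mem_span_basicOpen W.2 f (hT W) (res G hf t)
  rw [Set.image_image] at h
  simp only [res_res] at h
  exact Submodule.span_mono (Set.image_mono (Finset.coe_subset.2 (Finset.subset_biUnion_of_mem T hWc))) h

/-- Global sections of a tensor product. -/
theorem spans_tensor {G E : X.Modules} {S : Set Γ(G, ⊤)} {T : Set Γ(E, ⊤)} (hS : Spans G S) (hT : Spans E T) :
    Spans (CohB1.tensorMod G E) (Set.image2 tm S T) := by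
  intro U t x hxU
  obtain ⟨V, hV, p, hxV, hp⟩ := TMul.exists_tt t hxU
  suffices H : ∃ (W : X.Opens) (hW : W ≤ V), x ∈ W ∧ res _ hW (TMul.tt G E V p) ∈
      Submodule.span Γ(X, W) (res (CohB1.tensorMod G E) (le_top : W ≤ ⊤) '' Set.image2 tm S T) by
    obtain ⟨W, hW, hxW, h⟩ := H
    refine ⟨W, hW.trans hV, hxW, ?_⟩
    rwa [hp, res_res] at h
  clear hp
  induction p using TensorProduct.induction_on with
  | zero => exact ⟨V, le_rfl, hxV, by rw [map_zero, map_zero]; exact zero_mem _⟩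
  | tmul a b =>
    obtain ⟨W₁, hW₁, hx₁, ha⟩ := hS V a x hxV
    obtain ⟨W₂, hW₂, hx₂, hb⟩ := hT W₁ (res E hW₁ b) x hx₁
    refine ⟨W₂, hW₂.trans hW₁, hx₂, ?_⟩
    rw [TMul.tt_tmul, TMul.res_tm, ← res_res E hW₂ hW₁ b, ← res_res G hW₂ hW₁ a]
    replace ha := span_res hW₂ ha
    generalize res G hW₂ (res G hW₁ a) = a' at ha ⊢
    generalize res E hW₂ (res E hW₁ b) = b' at hb ⊢
    induction ha using Submodule.span_induction with
    | mem y hy =>
      obtain ⟨s, hs, rfl⟩ := hy
      induction hb using Submodule.span_induction with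
      | mem z hz =>
        obtain ⟨r, hr, rfl⟩ := hz
        exact Submodule.subset_span ⟨tm s r, ⟨s, hs, r, hr, rfl⟩, TMul.res_tm _ _ _⟩
      | zero => rw [← TMul.tt_tmul, TensorProduct.tmul_zero, map_zero]; exact zero_mem _
      | add y z _ _ hy hz => rw [TMul.add_tm]; exact add_mem hy hz
      | smul c y _ hy => rw [TMul.tm_smul]; exact Submodule.smul_mem _ _ hy
    | zero => rw [TMul.zero_tm]; exact zero_mem _
    | add y z _ _ hy hz => rw [TMul.tm_add]; exact add_mem hy hz
    | smul c y _ hy => rw [TMul.smul_tm]; exact Submodule.smul_mem _ _ hy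
  | add p q hp hq =>
    obtain ⟨W₁, hW₁, hx₁, h₁⟩ := hp
    obtain ⟨W₂, hW₂, hx₂, h₂⟩ := hq
    refine ⟨W₁ ⊓ W₂, inf_le_left.trans hW₁, ⟨hx₁, hx₂⟩, ?_⟩
    have h₁' := span_res (inf_le_left : W₁ ⊓ W₂ ≤ W₁) h₁
    have h₂' := span_res (inf_le_right : W₁ ⊓ W₂ ≤ W₂) h₂
    rw [res_res] at h₁' h₂'
    rw [map_add, map_add]
    exact add_mem h₁' h₂'

theorem isGG_tensor [CompactSpace X] {G E : X.Modules} (hG : Coh.IsCoh G) (hGg : Curv2.IsGloballyGenerated G)
    (hE : Coh.IsCoh E) (hEg : Curv2.IsGloballyGenerated E) :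
    Curv2.IsGloballyGenerated (CohB1.tensorMod G E) := by
  obtain ⟨S, hS⟩ := exists_spans hG hGg
  obtain ⟨T, hT⟩ := exists_spans hE hEg
  exact isGG_of_spans (spans_tensor hS hT)

section Curve

variable (k : Type u) [Field k] [X.Over (Spec (CommRingCat.of k))] [IsProper (X ↘ Spec (CommRingCat.of k))]
variable (hdim : topologicalKrullDim X ≤ 1)

include k hdim

theorem h1_of_epi {A B : X.Modules} (p : A ⟶ B) [Epi p] (hA : Subsingleton (Coh.HH X A 1)) :
    Subsingleton (Coh.HH X B 1) := by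
  have hS : (ShortComplex.mk (kernel.ι p) p (kernel.condition p)).ShortExact :=
    { exact := ShortComplex.exact_of_f_is_kernel _ (kernelIsKernel p) }
  refine subsingleton_of_forall_eq 0 fun x => ?_
  obtain ⟨y, hy⟩ := CurveRR.surjective_h1 (k := k) hdim hS x
  rw [← hy, @Subsingleton.elim _ hA y 0, map_zero]

theorem h1_of_exact {A B C : X.Modules} (f : A ⟶ B) (g : B ⟶ C) [Epi g] (w : f ≫ g = 0)
    (hex : (ShortComplex.mk f g w).Exact) (hA : Subsingleton (Coh.HH X A 1))
    (hC : Subsingleton (Coh.HH X C 1)) : Subsingleton (Coh.HH X B 1) := by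
  have hS : (ShortComplex.mk (kernel.ι g) g (kernel.condition g)).ShortExact :=
    { exact := ShortComplex.exact_of_f_is_kernel _ (kernelIsKernel g) }
  haveI : Epi (kernel.lift g f w) := hex.epi_kernelLift
  have hK := h1_of_epi k hdim (kernel.lift g f w) hA
  refine subsingleton_of_forall_eq 0 fun x => ?_
  obtain ⟨y, hy⟩ := (map_g_eq_zero_iff (shortExact_toAb hS) 1 x).1 (@Subsingleton.elim _ hC _ _)
  rw [← hy, @Subsingleton.elim _ hK y 0, map_zero]

theorem h1_of_isZero {A : X.Modules} (hA : IsZero A) : Subsingleton (Coh.HH X A 1) :=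
  Sheaf.subsingleton_H_of_isZero (Functor.map_isZero (SheafOfModules.toSheaf X.ringCatSheaf) hA) 1

/-- Finitely many maps from an acyclic module, jointly epimorphic. -/
theorem h1_of_jointEpi {W : X.Modules} (hW : Subsingleton (Coh.HH X W 1)) :
    ∀ (n : ℕ) (G : X.Modules) (φ : Fin n → (W ⟶ G)),
      (∀ (T : X.Modules) (ψ : G ⟶ T), (∀ i, φ i ≫ ψ = 0) → ψ = 0) → Subsingleton (Coh.HH X G 1) := by
  intro n
  induction n with
  | zero => exact fun G φ h => h1_of_isZero k hdim ((IsZero.iff_id_eq_zero G).2 (h G (𝟙 G) fun i => i.elim0))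
  | succ n ih =>
    intro G φ h
    refine h1_of_exact k hdim (φ 0) (cokernel.π (φ 0)) (cokernel.condition _)
      (ShortComplex.exact_of_g_is_cokernel _ (cokernelIsCokernel _)) hW
      (ih _ (fun i => φ i.succ ≫ cokernel.π (φ 0)) fun T ψ hψ => ?_)
    refine (cancel_epi (cokernel.π (φ 0))).1 ?_
    rw [comp_zero]
    refine h T _ fun i => ?_
    refine Fin.cases ?_ (fun i => ?_) i
    · rw [← Category.assoc, cokernel.condition, zero_comp]
    · rw [← Category.assoc, hψ]

/-- Tensoring an acyclic module with a globally generated one. -/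
theorem h1_tensor {G W : X.Modules} (hG : Coh.IsCoh G) (hgg : Curv2.IsGloballyGenerated G)
    (hW : Subsingleton (Coh.HH X W 1)) : Subsingleton (Coh.HH X (CohB1.tensorMod G W) 1) := by
  haveI := CurveRR.isNoetherian_of_proper k X
  obtain ⟨S, hS⟩ := exists_spans hG hgg
  let s : Fin S.card → Γ(G, ⊤) := fun i => (S.equivFin.symm i).1
  refine h1_of_jointEpi k hdim hW S.card _ (fun i => (TMul.leftUnitIso W).inv ≫ tmap (homOf (s i)) W)
    fun T ψ hψ => TMul.hom_ext fun U a m => ?_
  have key : ∀ (i : Fin S.card) (V : X.Opens) (m : Γ(W, V)),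
      ψ.app V (tm (res G (le_top : V ≤ ⊤) (s i)) m) = 0 := fun i V m => by
    have h0 := hψ i
    rw [Category.assoc, Preadditive.IsIso.comp_left_eq_zero] at h0
    have h1 := congrArg (fun f : CohB1.tensorMod (Coh.structureModule X) W ⟶ T =>
      f.app V (tm (show Γ(Coh.structureModule X, V) from (1 : Γ(X, V))) m)) h0
    rw [← val_homOf (s i) V]
    refine Eq.trans ?_ (h1.trans rfl)
    exact congrArg (ψ.app V) (CohFinite.tmap_tm (homOf (s i)) W _ m).symm
  refine section_eq_of_locally fun x hx => ?_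
  obtain ⟨V, hV, hxV, ha⟩ := hS U a x hx
  refine ⟨V, hV, hxV, ?_⟩
  rw [app_res, TMul.res_tm]
  generalize res G hV a = a' at ha ⊢
  generalize res W hV m = m'
  rw [show (0 : CohB1.tensorMod G W ⟶ T).app U (tm a m) = 0 from rfl, map_zero]
  induction ha using Submodule.span_induction generalizing m' with
  | mem y hy =>
    obtain ⟨g, hg, rfl⟩ := hy
    have h := key (S.equivFin ⟨g, hg⟩) V m'
    simpa [s] using h
  | zero => rw [TMul.zero_tm, map_zero]
  | add y z _ _ hy hz => rw [TMul.tm_add, map_add, hy, hz, add_zero]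
  | smul c y _ hy => rw [TMul.smul_tm, TMul.app_smul, hy, smul_zero]

end Curve

end Groth.Agent.DefAmple
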