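import Groth.Agent.DefAmple.Main
import Groth.Agent.DualGeneric.EndOmega
import Groth.Agent.CohFinite.Proper
import Groth.Agent.SerrePn.Basic

/-!
Global sections generate onto a zero-dimensional quotient by the dualizing module.
-/

set_option autoImplicit false
set_option linter.unusedSectionVars false
set_option linter.style.haveILetI false
set_option backward.isDefEq.respectTransparency false
set_option maxHeartbeats 1000000

universe u

open CategoryTheory CategoryTheory.Limits AlgebraicGeometry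
open Groth.Agent.QC (res resO res_res res_self res_smul section_eq_of_locally app_res)
open TMul (homOf val_homOf val)
open Groth.Agent.CohFinite (hhMap hhδ shortExact_toAb map_f_eq_zero_iff map_g_eq_zero_iff δH_eq_zero_iff)

noncomputable section

namespace Groth.Agent.DefAmple

variable (k : Type u) [Field k] {X : Scheme.{u}} [X.Over (Spec (CommRingCat.of k))]
  [IsProper (X ↘ Spec (CommRingCat.of k))]

/-- If every endomorphism of a dualizing pair is scalar then the trace is injective. -/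
theorem trace_injective {ω : X.Modules} {n : ℕ} {tr : Coh.HH X ω n →ₗ[k] k} (ht : Canon.IsRDualOver k X n ω tr)
    (hω : Coh.IsQCoh ω) (hend : ∀ ψ : ω ⟶ ω, ∃ a : k, ψ = a • 𝟙 ω) : Function.Injective tr := by
  refine (injective_iff_map_eq_zero _).2 fun x hx => ?_
  by_contra hne
  obtain ⟨lam, hlam⟩ := not_forall.1 fun h => hne ((Module.forall_dual_apply_eq_zero_iff k x).1 h)
  obtain ⟨ψ, hψ⟩ := (ht.2 ω hω).2 lam
  obtain ⟨a, rfl⟩ := hend ψ
  apply hlam
  rw [← hψ]
  show tr (hhMap k (a • 𝟙 ω) n x) = 0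
  rw [SerrePn.hhMap_smul, LinearMap.smul_apply, CohFinite.hhMap_id, map_smul, hx, smul_zero]

theorem notMem_support_of_epi {A B : X.Modules} (p : A ⟶ B) [Epi p] {x : X} (hx : x ∉ CohB1.support A) :
    x ∉ CohB1.support B := by
  rw [Groth.Agent.QC.notMem_support_iff] at hx ⊢
  intro U hxU s
  obtain ⟨V, hV, hxV, t, ht⟩ := TMul.exists_app_eq_of_epi p s hxU
  obtain ⟨W, hW, hxW, h0⟩ := hx V hxV t
  refine ⟨W, hW.trans hV, hxW, ?_⟩
  rw [← res_res B hW hV, ← ht, app_res, h0, map_zero]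

theorem notMem_support_of_mono {A B : X.Modules} (i : A ⟶ B) [Mono i] {x : X} (hx : x ∉ CohB1.support B) :
    x ∉ CohB1.support A := by
  rw [Groth.Agent.QC.notMem_support_iff] at hx ⊢
  intro U hxU s
  obtain ⟨W, hW, hxW, h0⟩ := hx U hxU (i.app U s)
  refine ⟨W, hW, hxW, Groth.Agent.QC.app_injective_of_mono i W ?_⟩
  rw [← app_res, h0, map_zero]

theorem core (hdim : topologicalKrullDim X = 1) {ω F Q C : X.Modules} {tr : Coh.HH X ω 1 →ₗ[k] k}
    (ht : Canon.IsRDualOver k X 1 ω tr) (hω : Coh.IsCoh ω) (hend : ∀ ψ : ω ⟶ ω, ∃ a : k, ψ = a • 𝟙 ω)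
    (hF : Coh.IsCoh F) (hQ : Coh.IsCoh Q) (hC : Coh.IsQCoh C) (f : ω ⟶ F) (g : F ⟶ Q) [Epi g] (w : f ≫ g = 0)
    (hex : (ShortComplex.mk f g w).Exact) (hQ0 : topologicalKrullDim (CohB1.support Q) ≤ 0)
    (hQ2 : 2 ≤ Module.finrank k (Coh.HH X Q 0))
    (hno : ∀ (Q' : X.Modules) (i : Q' ⟶ F), Mono i → Mono (i ≫ g) → IsZero Q')
    (π : Q ⟶ C) [Epi π] (hπ0 : π ≠ 0) (hπs : ∀ s : Γ(F, ⊤), π.app ⊤ (g.app ⊤ s) = 0) : False := by
  haveI := CurveRR.isNoetherian_of_proper k X
  haveI := Groth.Agent.CohFinite.finite_proper k X Q hQ 0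
  have hclQ : IsClosed (CohB1.support Q) := Groth.Agent.QC.isClosed_support hQ.2
  have hCsupp : ∀ x ∉ CohB1.support Q, x ∉ CohB1.support (C) := fun x hx =>
    notMem_support_of_epi π hx
  have hKsupp : ∀ x ∉ CohB1.support Q, x ∉ CohB1.support (kernel π) := fun x hx =>
    notMem_support_of_mono (kernel.ι π) hx
  have hQ01 : Subsingleton (Coh.HH X (kernel π) 1) :=
    SuppZero.subsingleton_hh_of_supported hclQ hQ0 _ hKsupp 1 le_rfl
  -- the degree zero sequences
  have hS : (ShortComplex.mk (kernel.ι g) g (kernel.condition g)).ShortExact :=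
    { exact := ShortComplex.exact_of_f_is_kernel _ (kernelIsKernel g) }
  have hSπ : (ShortComplex.mk (kernel.ι π) π (kernel.condition π)).ShortExact :=
    { exact := ShortComplex.exact_of_f_is_kernel _ (kernelIsKernel π) }
  haveI hE : Epi (kernel.lift g f w) := hex.epi_kernelLift
  have hline : ∀ u v : Coh.HH X (kernel g) 1, u ≠ 0 → ∃ c : k, v = c • u := by
    intro u v hu
    have hsurj : Function.Surjective (hhMap k (kernel.lift g f w) 1) := CurveRR.surjective_h1 (k := k) hdim.le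
      (S := ShortComplex.mk (kernel.ι (kernel.lift g f w)) (kernel.lift g f w) (kernel.condition _))
      { exact := ShortComplex.exact_of_f_is_kernel _ (kernelIsKernel _) }
    obtain ⟨a, rfl⟩ := hsurj u
    obtain ⟨b, rfl⟩ := hsurj v
    have hinj := trace_injective k ht hω.1 hend
    have ha : tr a ≠ 0 := fun h => hu (by rw [hinj (h.trans (map_zero tr).symm), map_zero])
    refine ⟨tr b / tr a, ?_⟩
    rw [← map_smul]
    congr 1
    refine hinj ?_
    rw [map_smul, smul_eq_mul, div_mul_cancel₀ _ ha]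
  let δ := hhδ k hS 0
  let P := hhMap k π 0
  have hδ : ∀ z, δ z = 0 → P z = 0 := fun z hz => by
    obtain ⟨y, hy⟩ := (δH_eq_zero_iff (shortExact_toAb hS) 0 z).1 hz
    refine (GaetaGen.Vanish.g0 _).injective ?_
    rw [map_zero, show P z = Sheaf.H.map ((SheafOfModules.toSheaf X.ringCatSheaf).map π) 0 z from rfl,
      GaetaGen.Vanish.g0_map, ← hy]
    refine (congrArg (π.app ⊤) ?_).trans (hπs (GaetaGen.Vanish.g0 F y))
    exact GaetaGen.Vanish.g0_map g y
  -- a section outside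
  obtain ⟨U, s, hs⟩ : ∃ (U : X.Opens) (s : Γ(Q, U)), π.app U s ≠ 0 := by
    by_contra h
    exact hπ0 (Scheme.Modules.hom_ext _ _ fun U => ConcreteCategory.hom_ext _ _ fun s =>
      (not_not.1 fun h' => h ⟨U, s, h'⟩).trans rfl)
  obtain ⟨a, ha⟩ := SuppZero.exists_extend_global (C)
    (fun S hS => SuppZero.isClosed_of_subset hclQ hQ0 S fun y hy => not_not.1 fun h => hCsupp y h (hS hy))
    U (π.app U s)
  obtain ⟨x, hx⟩ : ∃ x : Coh.HH X Q 0, P x = (GaetaGen.Vanish.g0 _).symm a := (δH_eq_zero_iff (shortExact_toAb hSπ) 0 ((GaetaGen.Vanish.g0 _).symm a)).1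
    (@Subsingleton.elim _ hQ01 _ _)
  have hPx : P x ≠ 0 := by
    intro h
    refine hs ?_
    have h1 : P x = (GaetaGen.Vanish.g0 _).symm a := hx
    rw [h] at h1
    have h2 := congrArg (GaetaGen.Vanish.g0 _) h1
    rw [AddEquiv.apply_symm_apply, map_zero] at h2
    rw [← ha, ← h2, map_zero]
  have hδx : δ x ≠ 0 := fun h => hPx (hδ x h)
  have hspan : ∀ z, ∃ c : k, δ (z - c • x) = 0 := fun z => by
    obtain ⟨c, hc⟩ := hline (δ x) (δ z) hδx
    exact ⟨c, by rw [map_sub, map_smul, hc, sub_self]⟩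
  have hker : ∀ z, P z = 0 → δ z = 0 := fun z hz => by
    obtain ⟨c, hc⟩ := hspan z
    have h1 := hδ _ hc
    rw [map_sub, map_smul, hz, zero_sub, neg_eq_zero, smul_eq_zero] at h1
    rcases h1 with rfl | h1
    · simpa using hc
    · exact absurd h1 hPx
  -- the preimage of the image
  let g₀ : kernel (g ≫ π) ⟶ kernel π := kernel.lift π (kernel.ι (g ≫ π) ≫ g) (by rw [Category.assoc, kernel.condition])
  let f₀ : ω ⟶ kernel (g ≫ π) := kernel.lift (g ≫ π) f (by rw [reassoc_of% w, zero_comp])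
  have w₀ : f₀ ≫ g₀ = 0 := (cancel_mono (kernel.ι π)).1 (by
    rw [Category.assoc, kernel.lift_ι, kernel.lift_ι_assoc, w, zero_comp])
  have hg₀ : g₀ ≫ kernel.ι π = kernel.ι (g ≫ π) ≫ g := kernel.lift_ι _ _ _
  haveI hepi : Epi g₀ := InvGen.epi_of_locally _ fun U t y hy => by
    obtain ⟨V, hV, hyV, s, hs'⟩ := TMul.exists_app_eq_of_epi g ((kernel.ι π).app U t) hy
    have hgp : (g ≫ π).app V s = 0 := by
      show π.app V (g.app V s) = 0
      rw [hs', ← app_res]
      have h0 : π.app U ((kernel.ι π).app U t) = 0 :=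
        congrArg (fun φ : kernel π ⟶ C => φ.app U t) (kernel.condition π)
      rw [h0, map_zero]
    haveI hS'' : Epi (g ≫ π) := epi_comp _ _
    have hS' : (ShortComplex.mk (kernel.ι (g ≫ π)) (g ≫ π) (kernel.condition _)).ShortExact :=
      { exact := ShortComplex.exact_of_f_is_kernel _ (kernelIsKernel _) }
    obtain ⟨r, hr⟩ := Groth.Agent.SiteCoh.sections_exact (shortExact_toAb hS') V s hgp
    have hr : (kernel.ι (g ≫ π)).app V r = s := hr
    refine ⟨V, hV, hyV, r, Groth.Agent.QC.app_injective_of_mono (kernel.ι π) V ?_⟩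
    rw [← app_res, ← hs', ← hr]
    exact congrArg (fun φ : kernel (g ≫ π) ⟶ Q => φ.app V r) hg₀
  have hF₀ := Groth.Agent.QC.isQCoh_kernel hF.1 hC (g ≫ π)
  have hQ₀ := Groth.Agent.QC.isQCoh_kernel hQ.1 hC π
  -- kernels agree
  let e : kernel g₀ ⟶ kernel g := kernel.lift g (kernel.ι g₀ ≫ kernel.ι (g ≫ π)) (by
    rw [Category.assoc, ← hg₀, kernel.condition_assoc, zero_comp])
  let e' : kernel g ⟶ kernel g₀ := kernel.lift g₀ (kernel.lift (g ≫ π) (kernel.ι g) (by
    rw [kernel.condition_assoc, zero_comp])) ((cancel_mono (kernel.ι π)).1 (by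
      rw [Category.assoc, hg₀, kernel.lift_ι_assoc, kernel.condition, zero_comp]))
  have hee : e' ≫ e = 𝟙 _ := (cancel_mono (kernel.ι g)).1 (by simp [e, e'])
  haveI : IsIso e' := ⟨e, hee, (cancel_mono (kernel.ι g₀)).1 ((cancel_mono (kernel.ι (g ≫ π))).1 (by simp [e, e']))⟩
  let E₀ := kernel.lift g₀ f₀ w₀
  have hE₀ : kernel.lift g f w ≫ e' = E₀ := (cancel_mono (kernel.ι g₀)).1 ((cancel_mono (kernel.ι (g ≫ π))).1 (by simp [e', E₀, f₀]))
  haveI : Epi E₀ := by rw [← hE₀]; infer_instance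
  -- non vanishing of the cohomology of the preimage
  have hH : ¬ Subsingleton (Coh.HH X (kernel (g ≫ π)) 1) := fun hsub => by
    refine hδx ?_
    have hS₀ : (ShortComplex.mk (kernel.ι g₀) g₀ (kernel.condition g₀)).ShortExact :=
      { exact := ShortComplex.exact_of_f_is_kernel _ (kernelIsKernel g₀) }
    let θ : ShortComplex.mk (kernel.ι g₀) g₀ (kernel.condition g₀) ⟶ ShortComplex.mk (kernel.ι g) g (kernel.condition g) :=
      ShortComplex.homMk e (kernel.ι (g ≫ π)) (kernel.ι π) (kernel.lift_ι _ _ _) hg₀.symm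
    obtain ⟨z, hz⟩ := (map_f_eq_zero_iff (shortExact_toAb hS₀) 0
      (Sheaf.H.map ((SheafOfModules.toSheaf X.ringCatSheaf).map e') 1 (δ x))).1 (@Subsingleton.elim _ hsub _ _)
    have hn := CohFinite.δH_natural (shortExact_toAb hS₀) (shortExact_toAb hS)
      ((Groth.Agent.CohQC.toAbF X).mapShortComplex.map θ) 0 z
    rw [hz] at hn
    have hid : Sheaf.H.map ((SheafOfModules.toSheaf X.ringCatSheaf).map e) 1
        (Sheaf.H.map ((SheafOfModules.toSheaf X.ringCatSheaf).map e') 1 (δ x)) = δ x := by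
      rw [← Sheaf.H.map_comp_apply, ← Functor.map_comp, hee,
        (SheafOfModules.toSheaf X.ringCatSheaf).map_id]
      exact Sheaf.H.map_id_apply _
    have hz0 : δ (hhMap k (kernel.ι π) 0 z) = δ x := hn.trans hid
    have hP : P (hhMap k (kernel.ι π) 0 z) = 0 := (map_g_eq_zero_iff (shortExact_toAb hSπ) 0 _).2 ⟨z, rfl⟩
    rw [← hz0]
    exact hker _ hP
  obtain ⟨φ, hφ⟩ : ∃ φ : kernel (g ≫ π) ⟶ ω, φ ≠ 0 := by
    by_contra h
    exact hH (CurveRR.subsingleton_hh_of_hom ht hF₀ fun φ => not_not.1 fun h' => h ⟨φ, h'⟩)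
  have hex₀ : (ShortComplex.mk f₀ g₀ w₀).Exact :=
    (ShortComplex.exact_iff_epi_kernel_lift _).2 (inferInstanceAs (Epi E₀))
  obtain ⟨a, ha⟩ := hend (f₀ ≫ φ)
  have ha0 : a ≠ 0 := by
    rintro rfl
    rw [zero_smul] at ha
    haveI : Epi (ShortComplex.mk f₀ g₀ w₀).g := hepi
    refine hφ ?_
    rw [← hex₀.g_desc φ ha, CurveRR.hom_eq_zero_of_subsingleton ht hQ₀ hQ01 (hex₀.desc φ ha), comp_zero]
  let r : kernel (g ≫ π) ⟶ ω := a⁻¹ • φ
  have hr : f₀ ≫ r = 𝟙 ω := by rw [Linear.comp_smul, ha, smul_smul, inv_mul_cancel₀ ha0, one_smul]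
  have hE₀r : E₀ ≫ kernel.ι g₀ ≫ r = 𝟙 ω := by rw [← Category.assoc, kernel.lift_ι, hr]
  haveI : IsIso E₀ := by
    haveI : Mono E₀ := mono_of_mono_fac hE₀r
    exact isIso_of_mono_of_epi _
  have hιr : kernel.ι g₀ ≫ r = inv E₀ := (cancel_epi E₀).1 (by rw [hE₀r, IsIso.hom_inv_id])
  let i : kernel r ⟶ F := kernel.ι r ≫ kernel.ι (g ≫ π)
  haveI : Mono (kernel.ι r ≫ g₀) := Preadditive.mono_of_cancel_zero _ fun u hu => by
    let v := kernel.lift g₀ (u ≫ kernel.ι r) (by rw [Category.assoc, hu])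
    have hv : v ≫ inv E₀ = 0 := by
      rw [← hιr, ← Category.assoc, kernel.lift_ι, Category.assoc, kernel.condition, comp_zero]
    have hv0 : v = 0 := (cancel_mono (inv E₀)).1 (by rw [hv, zero_comp])
    refine (cancel_mono (kernel.ι r)).1 ?_
    rw [zero_comp, ← kernel.lift_ι g₀ (u ≫ kernel.ι r) (by rw [Category.assoc, hu]),
      show kernel.lift g₀ (u ≫ kernel.ι r) (by rw [Category.assoc, hu]) = 0 from hv0, zero_comp]
  have hzero : IsZero (kernel r) := hno (kernel r) i (mono_comp _ _) (by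
    rw [show i ≫ g = (kernel.ι r ≫ g₀) ≫ kernel.ι π by rw [Category.assoc, Category.assoc, hg₀]]
    exact mono_comp _ _)
  haveI : Mono r := Preadditive.mono_of_kernel_zero (hzero.eq_of_src _ _)
  have hf₀ : r ≫ f₀ = 𝟙 _ := (cancel_mono r).1 (by rw [Category.assoc, hr, Category.comp_id, Category.id_comp])
  have hg₀0 : g₀ = 0 := by rw [← Category.id_comp g₀, ← hf₀, Category.assoc, w₀, comp_zero]
  have hπmono : Mono π := Preadditive.mono_of_kernel_zero ((cancel_epi g₀).1 (by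
    rw [hg₀0, zero_comp, zero_comp]))
  have hPinj : Function.Injective P := CohFinite.map_f_injective (shortExact_toAb
    (show (ShortComplex.mk π (0 : C ⟶ cokernel π) comp_zero).ShortExact from
      { exact := ShortComplex.exact_of_g_is_cokernel _ (by
          exact IsColimit.ofIsoColimit (cokernelIsCokernel π) (Cofork.ext (Iso.refl _) (by
            simpa using cokernel.π_of_epi π)))
        mono_f := hπmono
        epi_g := ⟨fun u v _ => by
          refine (cancel_epi (cokernel.π π)).1 ?_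
          rw [cokernel.π_of_epi π, zero_comp, zero_comp]⟩ }))
  have hle : Module.finrank k (Coh.HH X Q 0) ≤ 1 := finrank_le_one x fun z => by
    obtain ⟨c, hc⟩ := hspan z
    exact ⟨c, (sub_eq_zero.1 ((injective_iff_map_eq_zero _).1 hPinj _ (hδ _ hc))).symm⟩
  omega


theorem gen_onto (hdim : topologicalKrullDim X = 1) {ω F Q : X.Modules} {tr : Coh.HH X ω 1 →ₗ[k] k}
    (ht : Canon.IsRDualOver k X 1 ω tr) (hω : Coh.IsCoh ω) (hend : ∀ ψ : ω ⟶ ω, ∃ a : k, ψ = a • 𝟙 ω)
    (hF : Coh.IsCoh F) (hQ : Coh.IsCoh Q) (f : ω ⟶ F) (g : F ⟶ Q) [Epi g] (w : f ≫ g = 0)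
    (hex : (ShortComplex.mk f g w).Exact) (hQ0 : topologicalKrullDim (CohB1.support Q) ≤ 0)
    (hQ2 : 2 ≤ Module.finrank k (Coh.HH X Q 0))
    (hno : ∀ (Q' : X.Modules) (i : Q' ⟶ F), Mono i → Mono (i ≫ g) → IsZero Q') :
    ∃ (ι : Type u) (p : (SheafOfModules.free ι : X.Modules) ⟶ F), Epi (p ≫ g) := by
  classical
  let p : (SheafOfModules.free (R := X.ringCatSheaf) Γ(F, ⊤) : X.Modules) ⟶ F :=
    Sigma.desc fun t : Γ(F, ⊤) => (homOf t : SheafOfModules.unit X.ringCatSheaf ⟶ F)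
  refine ⟨_, p, ?_⟩
  by_contra hne
  let C : X.Modules := cokernel (p ≫ g)
  let π : Q ⟶ C := cokernel.π (p ≫ g)
  haveI : Epi π := inferInstanceAs (Epi (cokernel.π (p ≫ g)))
  have hπ0 : π ≠ 0 := fun h => hne (Preadditive.epi_of_cokernel_zero h)
  have hπs : ∀ s : Γ(F, ⊤), π.app ⊤ (g.app ⊤ s) = 0 := fun s => by
    have h0 : homOf s ≫ g ≫ π = 0 := by
      have h1 : (Sigma.ι (fun _ : Γ(F, ⊤) => SheafOfModules.unit X.ringCatSheaf) s) ≫ p = homOf s := Sigma.ι_desc _ s
      rw [← h1, Category.assoc, ← Category.assoc p g π, show (p ≫ g) ≫ π = 0 from cokernel.condition _, comp_zero]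
    have h2 := congrArg (fun φ : Coh.structureModule X ⟶ C => val φ ⊤) h0
    simp only [TMul.val_comp, val_homOf, res_self] at h2
    exact h2.trans rfl
  haveI : Coh.IsQCoh Q := hQ.1
  have hfree : Coh.IsQCoh (SheafOfModules.free (R := X.ringCatSheaf) Γ(F, ⊤) : X.Modules) := by
    exact (inferInstance : (SheafOfModules.free (R := X.ringCatSheaf) Γ(F, ⊤)).IsQuasicoherent)
  exact core k hdim ht hω hend hF hQ (Groth.Agent.QC.isQCoh_cokernel hfree hQ.1 _) f g w hex hQ0 hQ2 hno π hπ0 hπs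

end Groth.Agent.DefAmple
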