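import Groth.Agent.DefAmple.Basic
import Groth.Agent.Intersect.ProperPoints
import Groth.Agent.LocFree.Props
import Groth.Agent.K0Coh.Basic

/-!
Stability properties of the class: globally generated and `H¹(E ⊗ W) = 0`.
-/

set_option autoImplicit false
set_option linter.unusedSectionVars false
set_option linter.style.haveILetI false
set_option backward.isDefEq.respectTransparency false

universe u

open CategoryTheory CategoryTheory.Limits AlgebraicGeometry
open Groth.Agent.QC (res resO res_res res_self res_smul section_eq_of_locally app_res)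
open TMul (tm homOf val_homOf val)
open Groth.Agent.CohFinite (tmap shortExact_toAb map_g_eq_zero_iff δH δH_eq_zero_iff)

noncomputable section

namespace Groth.Agent.DefAmple

variable {X : Scheme.{u}}

theorem isCoh_unit (X : Scheme.{u}) : Coh.IsCoh (Coh.structureModule X) :=
  ⟨Groth.Agent.QC.isQCoh_unit X, TMul.isFT_structureModule X⟩

theorem spans_unit (X : Scheme.{u}) :
    Spans (Coh.structureModule X) ({(show Γ(Coh.structureModule X, ⊤) from (1 : Γ(X, ⊤)))} : Set Γ(Coh.structureModule X, ⊤)) := by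
  intro U t x hx
  refine ⟨U, le_rfl, hx, ?_⟩
  rw [res_self, Set.image_singleton, Submodule.mem_span_singleton]
  refine ⟨(show Γ(X, U) from t), ?_⟩
  have h1 : res (Coh.structureModule X) (le_top : U ≤ ⊤) (show Γ(Coh.structureModule X, ⊤) from (1 : Γ(X, ⊤))) =
      (show Γ(Coh.structureModule X, U) from (1 : Γ(X, U))) := map_one (X.presheaf.map (homOfLE le_top).op).hom
  rw [h1]
  exact mul_one (show Γ(X, U) from t)

theorem isCoh_pow {E : X.Modules} (hE : Coh.IsCoh E) : ∀ n, Coh.IsCoh (CohB1.tensorPow E n)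
  | 0 => isCoh_unit X
  | n + 1 => CurveRR.isCoh_tensor' (isCoh_pow hE n) hE

theorem isGG_pow [CompactSpace X] {E : X.Modules} (hE : Coh.IsCoh E) (hgg : Curv2.IsGloballyGenerated E) :
    ∀ n, Curv2.IsGloballyGenerated (CohB1.tensorPow E n)
  | 0 => isGG_of_spans (spans_unit X)
  | n + 1 => isGG_tensor (isCoh_pow hE n) (isGG_pow hE hgg n) hE hgg

theorem spans_of_epi {A B : X.Modules} (g : A ⟶ B) [Epi g] {S : Set Γ(A, ⊤)} (hS : Spans A S) :
    Spans B (g.app ⊤ '' S) := by
  intro U t x hx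
  obtain ⟨V, hV, hxV, s, hs⟩ := TMul.exists_app_eq_of_epi g t hx
  obtain ⟨W, hW, hxW, h⟩ := hS V s x hxV
  refine ⟨W, hW.trans hV, hxW, ?_⟩
  rw [← res_res B hW hV, ← hs, app_res]
  generalize res A hW s = w at h ⊢
  induction h using Submodule.span_induction with
  | mem y hy =>
    obtain ⟨r, hr, rfl⟩ := hy
    exact Submodule.subset_span ⟨_, ⟨r, hr, rfl⟩, app_res g _ r⟩
  | zero => rw [map_zero]; exact zero_mem _
  | add a b _ _ ha hb => rw [map_add]; exact add_mem ha hb
  | smul c a _ ha => rw [TMul.app_smul]; exact Submodule.smul_mem _ c ha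

theorem spans_univ {A : X.Modules} [CompactSpace X] (hA : Coh.IsCoh A) (hgg : Curv2.IsGloballyGenerated A) :
    Spans A Set.univ := fun U t x hx => by
  obtain ⟨S, hS⟩ := exists_spans hA hgg
  obtain ⟨V, hV, hxV, h⟩ := hS U t x hx
  exact ⟨V, hV, hxV, Submodule.span_mono (Set.image_mono (Set.subset_univ _)) h⟩

section Curve

variable (k : Type u) [Field k] [X.Over (Spec (CommRingCat.of k))] [IsProper (X ↘ Spec (CommRingCat.of k))]
variable (hdim : topologicalKrullDim X ≤ 1)

include k hdim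

theorem h1_of_gg (hO : Subsingleton (Coh.HH X (Coh.structureModule X) 1)) {G : X.Modules} (hG : Coh.IsCoh G)
    (hgg : Curv2.IsGloballyGenerated G) : Subsingleton (Coh.HH X G 1) :=
  CohQC.hh_subsingleton_of_iso (TMul.commIso G (Coh.structureModule X) ≪≫ TMul.leftUnitIso G) 1
    (h1_tensor k hdim hG hgg hO)

theorem isGG_of_exact {A B C : X.Modules} (f : A ⟶ B) (g : B ⟶ C) [Epi g] (w : f ≫ g = 0)
    (hex : (ShortComplex.mk f g w).Exact) (hA : Spans A Set.univ) (hA1 : Subsingleton (Coh.HH X A 1))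
    (hC : Spans C Set.univ) : Curv2.IsGloballyGenerated B := by
  have hS : (ShortComplex.mk (kernel.ι g) g (kernel.condition g)).ShortExact :=
    { exact := ShortComplex.exact_of_f_is_kernel _ (kernelIsKernel g) }
  haveI : Epi (kernel.lift g f w) := hex.epi_kernelLift
  have hK1 := h1_of_epi k hdim (kernel.lift g f w) hA1
  have hlift : ∀ c : Γ(C, ⊤), ∃ b : Γ(B, ⊤), g.app ⊤ b = c := fun c => by
    obtain ⟨y, hy⟩ := (δH_eq_zero_iff (shortExact_toAb hS) 0 ((GaetaGen.Vanish.g0 C).symm c)).1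
      (@Subsingleton.elim _ hK1 _ _)
    refine ⟨GaetaGen.Vanish.g0 B y, ?_⟩
    rw [← GaetaGen.Vanish.g0_map]
    exact (congrArg _ hy).trans (AddEquiv.apply_symm_apply _ c)
  refine isGG_of_spans (S := Set.univ) fun U t x hx => ?_
  obtain ⟨V, hV, hxV, hc⟩ := hC U (g.app U t) x hx
  rw [app_res] at hc
  obtain ⟨b, hb, hbc⟩ : ∃ b : Γ(B, V), b ∈ Submodule.span Γ(X, V) (res B (le_top : V ≤ ⊤) '' Set.univ) ∧
      g.app V b = g.app V (res B hV t) := by
    generalize g.app V (res B hV t) = c at hc ⊢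
    induction hc using Submodule.span_induction with
    | mem y hy =>
      obtain ⟨r, -, rfl⟩ := hy
      obtain ⟨b, rfl⟩ := hlift r
      exact ⟨res B le_top b, Submodule.subset_span ⟨b, trivial, rfl⟩, (app_res g _ b).symm⟩
    | zero => exact ⟨0, zero_mem _, map_zero _⟩
    | add a b _ _ ha hb =>
      obtain ⟨u, hu, hua⟩ := ha
      obtain ⟨v, hv, hvb⟩ := hb
      exact ⟨u + v, add_mem hu hv, by rw [map_add, hua, hvb]⟩
    | smul c a _ ha =>
      obtain ⟨u, hu, hua⟩ := ha
      exact ⟨c • u, Submodule.smul_mem _ c hu, by rw [TMul.app_smul, hua]⟩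
  have hz : g.app V (res B hV t - b) = 0 := by rw [map_sub, hbc, sub_self]
  obtain ⟨a, ha⟩ := Groth.Agent.SiteCoh.sections_exact (shortExact_toAb hS) V (res B hV t - b) hz
  have ha : (kernel.ι g).app V a = res B hV t - b := ha
  obtain ⟨W, hW, hxW, hK⟩ := spans_of_epi (kernel.lift g f w) hA V a x hxV
  refine ⟨W, hW.trans hV, hxW, ?_⟩
  have h1 : res B (hW.trans hV) t = (kernel.ι g).app W (res _ hW a) + res B hW b := by
    rw [← app_res, ha, map_sub, sub_add_cancel, res_res]
  rw [h1]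
  refine add_mem ?_ (span_res hW hb)
  generalize res _ hW a = a' at hK ⊢
  induction hK using Submodule.span_induction with
  | mem y hy =>
    obtain ⟨r, -, rfl⟩ := hy
    exact Submodule.subset_span ⟨(kernel.ι g).app ⊤ r, trivial, app_res _ _ r⟩
  | zero => rw [map_zero]; exact zero_mem _
  | add a b _ _ ha hb => rw [map_add]; exact add_mem ha hb
  | smul c a _ ha => rw [TMul.app_smul]; exact Submodule.smul_mem _ c ha

/-- `H¹(- ⊗ W)` along a right exact sequence. -/
theorem h1_tensor_of_coker {A B : X.Modules} (φ : A ⟶ B) (W : X.Modules)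
    (hA : Subsingleton (Coh.HH X (CohB1.tensorMod A W) 1))
    (hC : Subsingleton (Coh.HH X (CohB1.tensorMod (cokernel φ) W) 1)) :
    Subsingleton (Coh.HH X (CohB1.tensorMod B W) 1) := by
  obtain ⟨hepi, hex⟩ := GaetaGen.Vanish.right_exact W φ
  haveI := hepi
  exact CohQC.hh_subsingleton_of_iso (TMul.commIso W B) 1
    (h1_of_exact k hdim _ _ _ hex (CohQC.hh_subsingleton_of_iso (TMul.commIso A W) 1 hA)
      (CohQC.hh_subsingleton_of_iso (TMul.commIso (cokernel φ) W) 1 hC))

theorem pow_stable {E W : X.Modules} (hE : Coh.IsCoh E) (hgg : Curv2.IsGloballyGenerated E)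
    (hW : Subsingleton (Coh.HH X (CohB1.tensorMod E W) 1)) (n : ℕ) (hn : 1 ≤ n) :
    Curv2.IsGloballyGenerated (CohB1.tensorPow E n) ∧
      Subsingleton (Coh.HH X (CohB1.tensorMod (CohB1.tensorPow E n) W) 1) := by
  haveI := CurveRR.isNoetherian_of_proper k X
  refine ⟨isGG_pow hE hgg n, ?_⟩
  obtain ⟨m, rfl⟩ : ∃ m, n = m + 1 := ⟨n - 1, by omega⟩
  exact CohQC.hh_subsingleton_of_iso (TMul.assocIso (CohB1.tensorPow E m) E W).symm 1
    (h1_tensor k hdim (isCoh_pow hE m) (isGG_pow hE hgg m) hW)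

theorem ext_stable (hO : Subsingleton (Coh.HH X (Coh.structureModule X) 1)) {S : ShortComplex X.Modules}
    (hS : S.ShortExact) {W : X.Modules} (h₁ : Coh.IsCoh S.X₁) (hg₁ : Curv2.IsGloballyGenerated S.X₁)
    (hW₁ : Subsingleton (Coh.HH X (CohB1.tensorMod S.X₁ W) 1))
    (h₃ : Coh.IsCoh S.X₃) (hg₃ : Curv2.IsGloballyGenerated S.X₃)
    (hW₃ : Subsingleton (Coh.HH X (CohB1.tensorMod S.X₃ W) 1)) :
    Curv2.IsGloballyGenerated S.X₂ ∧ Subsingleton (Coh.HH X (CohB1.tensorMod S.X₂ W) 1) := by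
  haveI := CurveRR.isNoetherian_of_proper k X
  haveI := hS.epi_g
  refine ⟨isGG_of_exact k hdim S.f S.g S.zero hS.exact (spans_univ h₁ hg₁) (h1_of_gg k hdim hO h₁ hg₁)
    (spans_univ h₃ hg₃), h1_tensor_of_coker k hdim S.f W hW₁ ?_⟩
  exact CohQC.hh_subsingleton_of_iso
    (PicGrp.tensorModIso (hS.gIsCokernel.coconePointUniqueUpToIso (cokernelIsCokernel S.f)) (Iso.refl W)) 1 hW₃

theorem torsion_stable (hO : Subsingleton (Coh.HH X (Coh.structureModule X) 1)) {A B : X.Modules}
    (φ : A ⟶ B) {W : X.Modules} (hA : Coh.IsCoh A) (hgA : Curv2.IsGloballyGenerated A) (hB : Coh.IsCoh B)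
    (hWA : Subsingleton (Coh.HH X (CohB1.tensorMod A W) 1))
    (htors : ∀ x ∈ CohB1.support (cokernel φ), IsClosed ({x} : Set X)) :
    Curv2.IsGloballyGenerated B ∧ Subsingleton (Coh.HH X (CohB1.tensorMod B W) 1) := by
  haveI := CurveRR.isNoetherian_of_proper k X
  have hFT : CohB1.IsFT (cokernel φ) := by
    haveI : Coh.IsQCoh B := hB.1
    exact Groth.Agent.QC.isFT_of_epi (cokernel.π φ) hB.2
  have hcl := Groth.Agent.QC.isClosed_support hFT
  have hd := Intersect.dim_le_zero_of_closedPoints hcl htors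
  refine ⟨isGG_of_exact k hdim φ (cokernel.π φ) (cokernel.condition φ)
    (ShortComplex.exact_of_g_is_cokernel _ (cokernelIsCokernel φ)) (spans_univ hA hgA)
    (h1_of_gg k hdim hO hA hgA) fun U t x hx => ?_,
    h1_tensor_of_coker k hdim φ W hWA (SuppZero.subsingleton_hh_of_supported hcl hd _ (fun y hy => ?_) 1 le_rfl)⟩
  · obtain ⟨a, ha⟩ := SuppZero.exists_extend_global (cokernel φ) (SuppZero.isClosed_of_subset hcl hd) U t
    exact ⟨U, le_rfl, hx, by rw [res_self]; exact Submodule.subset_span ⟨a, trivial, ha⟩⟩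
  · rw [Groth.Agent.QC.notMem_support_iff]
    intro U hyU s
    let V : X.Opens := U ⊓ ⟨(CohB1.support (cokernel φ))ᶜ, hcl.isOpen_compl⟩
    exact ⟨V, inf_le_left, ⟨hyU, hy⟩, CurveRR.suppIn_tensor (CurveRR.suppIn_of_subset le_rfl) W V _ fun z hz => hz.2⟩

end Curve

end Groth.Agent.DefAmple
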