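import Groth.Agent.DefAmple.GenOnto
import Groth.Agent.TFGerm.Basic
import Groth.Agent.DualGeneric.Basic
import Groth.Agent.CurveRR.Curve

/-!
Extensions of a torsion module by the dualizing module are globally generated.
-/

set_option autoImplicit false
set_option linter.unusedSectionVars false
set_option linter.style.haveILetI false
set_option backward.isDefEq.respectTransparency false
set_option backward.isDefEq.respectTransparency.types false
set_option maxHeartbeats 1000000

universe u

open CategoryTheory CategoryTheory.Limits AlgebraicGeometry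
open Groth.Agent.QC (res resO res_res res_self res_smul section_eq_of_locally app_res)
open Groth.Agent.WeakAssLib (mgerm mgerm_res mgerm_smul ext_germ stalkHom stalkHom_germ)
open TMul (homOf val_homOf val)
open Groth.Agent.CohFinite (hhMap hhδ shortExact_toAb)

noncomputable section

namespace Groth.Agent.DefAmple

variable {X : Scheme.{u}} [IsIntegral X]

/-- On an integral scheme a section of a torsion-free module with vanishing generic germ is zero. -/
theorem eq_zero_of_generic {F : X.Modules} [F.IsQuasicoherent]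
    (htf : ∀ (x : X) (a : X.presheaf.stalk x) (m : F.presheaf.stalk x), a • m = 0 → a = 0 ∨ m = 0)
    {U : X.Opens} (hU : genericPoint X ∈ U) (s : Γ(F, U)) (hs : mgerm F hU s = 0) : s = 0 := by
  refine ext_germ F s fun y hy => ?_
  obtain ⟨W, hW, hyW, hWU⟩ := exists_isAffineOpen_mem_and_subset (X := X) (x := y) (U := U) hy
  have hηW : genericPoint X ∈ W := ((genericPoint_spec X).mem_open_set_iff W.2).mpr (by simpa using ⟨y, hyW⟩)
  obtain ⟨a, ha, has⟩ := (Groth.Agent.WeakAssLib.germ_eq_zero_iff hW (Groth.Agent.QC.isLoc_of_isQCoh hW) hηW (res F hWU s)).1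
    (by rw [mgerm_res]; exact hs)
  have ha0 : a ≠ 0 := fun h => ha (h ▸ Submodule.zero_mem _)
  have h1 : mgerm F hyW (a • res F hWU s) = 0 := by rw [has, map_zero]
  rw [mgerm_smul, mgerm_res] at h1
  refine (htf y _ _ h1).resolve_left fun h => ha0 ?_
  exact AlgebraicGeometry.germ_injective_of_isIntegral (X := X) y hyW (h.trans (map_zero _).symm)

variable (k : Type u) [Field k] [X.Over (Spec (CommRingCat.of k))] [IsProper (X ↘ Spec (CommRingCat.of k))]

theorem tf_gen (hdim : topologicalKrullDim X = 1) {ω F Q : X.Modules} {tr : Coh.HH X ω 1 →ₗ[k] k}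
    (ht : Canon.IsRDualOver k X 1 ω tr) (hω : Coh.IsCoh ω) (hend : ∀ ψ : ω ⟶ ω, ∃ a : k, ψ = a • 𝟙 ω)
    (hF : Coh.IsCoh F) (hQ : Coh.IsCoh Q) (f : ω ⟶ F) (g : F ⟶ Q) (w : f ≫ g = 0)
    (hex : (ShortComplex.mk f g w).ShortExact)
    (htf : ∀ (x : X) (a : X.presheaf.stalk x) (m : F.presheaf.stalk x), a • m = 0 → a = 0 ∨ m = 0)
    (hQ0 : topologicalKrullDim (CohB1.support Q) ≤ 0) (hQ2 : 2 ≤ Module.finrank k (Coh.HH X Q 0)) :
    Curv2.IsGloballyGenerated F := by
  classical
  haveI := CurveRR.isNoetherian_of_proper k X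
  haveI : Mono f := hex.mono_f
  haveI : Epi g := hex.epi_g
  haveI : F.IsQuasicoherent := hF.1
  let η := genericPoint X
  -- the support of the quotient avoids the generic point
  have hclQ : IsClosed (CohB1.support Q) := Groth.Agent.QC.isClosed_support hQ.2
  have hηQ : η ∉ CohB1.support Q := fun h => by
    have hall : ∀ y : X, y ∈ CohB1.support Q := fun y => ((genericPoint_specializes y).mem_closed hclQ h)
    have e : topologicalKrullDim (CohB1.support Q) = topologicalKrullDim X := by
      rw [Set.eq_univ_of_forall hall]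
      exact (Homeomorph.Set.univ X).isHomeomorph.topologicalKrullDim_eq
    rw [e, hdim] at hQ0
    exact absurd hQ0 (by decide)
  have hQh1 : Subsingleton (Coh.HH X Q 1) :=
    SuppZero.subsingleton_hh_of_supported hclQ hQ0 _ (fun _ h => h) 1 le_rfl
  haveI hQη : Subsingleton (Q.presheaf.stalk η) := not_not.1 hηQ
  -- generic stalks
  obtain ⟨eω⟩ := DualGeneric.exists_generic_equiv (k := k) hdim hω tr fun G hG => ht.2 G hG.1
  have hone : ∀ u v : ω.presheaf.stalk η, u ≠ 0 → ∃ c : X.presheaf.stalk η, v = c • u := fun u v hu => by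
    have h0 : (eω u : X.functionField) ≠ 0 := fun h => hu (eω.injective (h.trans (map_zero eω).symm))
    refine ⟨(show X.functionField from eω v) * (show X.functionField from eω u)⁻¹, eω.injective ?_⟩
    rw [map_smul]
    exact (inv_mul_cancel_right₀ h0 (show X.functionField from eω v)).symm
  have hfsurj : ∀ v : F.presheaf.stalk η, ∃ u, stalkHom f η u = v := fun v =>
    WeakAssLib.stalk_exact _ hex η v (Subsingleton.elim _ _)
  have hFone : ∀ u v : F.presheaf.stalk η, u ≠ 0 → ∃ c : X.presheaf.stalk η, v = c • u := fun u v hu => by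
    obtain ⟨a, rfl⟩ := hfsurj u
    obtain ⟨b, rfl⟩ := hfsurj v
    obtain ⟨c, hc⟩ := hone a b fun h => hu (by rw [h, map_zero])
    exact ⟨c, by rw [hc, WeakAssLib.stalkHom_smul]⟩
  have hωtf : ∀ {U : X.Opens} (hU : η ∈ U) (s : Γ(ω, U)), mgerm ω hU s = 0 → s = 0 := fun {U} hU s hs => by
    refine Groth.Agent.QC.app_injective_of_mono f U ((eq_zero_of_generic htf hU _ ?_).trans (map_zero _).symm)
    rw [← stalkHom_germ, hs, map_zero]
  -- no first cohomology
  have hF1 : Subsingleton (Coh.HH X F 1) := by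
    by_cases hall : ∀ φ : F ⟶ ω, φ = 0
    · exact CurveRR.subsingleton_hh_of_hom ht hF.1 hall
    obtain ⟨φ, hφ⟩ := not_forall.1 hall
    obtain ⟨a, ha⟩ := hend (f ≫ φ)
    exfalso
    have ha0 : a ≠ 0 := by
      rintro rfl
      rw [zero_smul] at ha
      haveI : Epi (ShortComplex.mk f g w).g := hex.epi_g
      refine hφ ?_
      rw [← hex.exact.g_desc φ ha, CurveRR.hom_eq_zero_of_subsingleton ht hQ.1 hQh1 (hex.exact.desc φ ha), comp_zero]
    let r : F ⟶ ω := a⁻¹ • φ
    have hr : f ≫ r = 𝟙 ω := by rw [Linear.comp_smul, ha, smul_smul, inv_mul_cancel₀ ha0, one_smul]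
    have hQz : ∀ (U : X.Opens) (t : Γ(Q, U)), t = 0 := fun U t => section_eq_of_locally fun y hy => by
      obtain ⟨V, hV, hyV, s, hs⟩ := TMul.exists_app_eq_of_epi g t hy
      refine ⟨V, hV, hyV, ?_⟩
      rw [← hs, map_zero]
      have hV' : η ∈ V := ((genericPoint_spec X).mem_open_set_iff V.2).mpr (by simpa using ⟨y, hyV⟩)
      have hz : s - f.app V (r.app V s) = 0 := by
        refine eq_zero_of_generic htf hV' _ ?_
        obtain ⟨u, hu⟩ := hfsurj (mgerm F hV' (s - f.app V (r.app V s)))
        have h1 : stalkHom r η (mgerm F hV' (s - f.app V (r.app V s))) = 0 := by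
          rw [stalkHom_germ, map_sub, show r.app V (f.app V (r.app V s)) = (f ≫ r).app V (r.app V s) from rfl, hr]
          simp
        rw [← hu] at h1 ⊢
        have h2 : ∀ w : ω.presheaf.stalk η, stalkHom r η (stalkHom f η w) = w := fun w => by
          obtain ⟨W, hW, b, rfl⟩ := ω.presheaf.exists_germ_eq (x := η) w
          change stalkHom r η (stalkHom f η (mgerm ω hW b)) = mgerm ω hW b
          rw [stalkHom_germ, stalkHom_germ, show r.app W (f.app W b) = (f ≫ r).app W b from rfl, hr]
          rfl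
        rw [h2] at h1
        rw [h1, map_zero]
      rw [sub_eq_zero.1 hz, show g.app V (f.app V (r.app V s)) = (f ≫ g).app V (r.app V s) from rfl, w]
      rfl
    haveI : Subsingleton Γ(Q, ⊤) := subsingleton_of_forall_eq 0 (hQz ⊤)
    haveI : Subsingleton (Coh.HH X Q 0) := (GaetaGen.Vanish.g0 Q).injective.subsingleton
    rw [Module.finrank_zero_of_subsingleton] at hQ2
    omega
  -- the sub module generated by global sections
  let p : (SheafOfModules.free (R := X.ringCatSheaf) Γ(F, ⊤) : X.Modules) ⟶ F :=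
    Sigma.desc fun t : Γ(F, ⊤) => (homOf t : SheafOfModules.unit X.ringCatSheaf ⟶ F)
  refine ⟨_, p, ?_⟩
  by_contra hne
  let C : X.Modules := cokernel p
  let π : F ⟶ C := cokernel.π p
  have hπ0 : π ≠ 0 := fun h => hne (Preadditive.epi_of_cokernel_zero h)
  have hfree : Coh.IsQCoh (SheafOfModules.free (R := X.ringCatSheaf) Γ(F, ⊤) : X.Modules) := by
    exact (inferInstance : (SheafOfModules.free (R := X.ringCatSheaf) Γ(F, ⊤)).IsQuasicoherent)
  have hC : Coh.IsCoh C := Groth.Agent.QC.isCoh_of_epi hF (Groth.Agent.QC.isQCoh_cokernel hfree hF.1 p) π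
  have hG : Coh.IsCoh (kernel π) := Groth.Agent.QC.isCoh_kernel hF hC.1 π
  have hS : (ShortComplex.mk (kernel.ι π) π (kernel.condition π)).ShortExact :=
    { exact := ShortComplex.exact_of_f_is_kernel _ (kernelIsKernel π) }
  have hπs : ∀ s : Γ(F, ⊤), π.app ⊤ s = 0 := fun s => by
    have h1 : (Sigma.ι (fun _ : Γ(F, ⊤) => SheafOfModules.unit X.ringCatSheaf) s) ≫ p = homOf s := Sigma.ι_desc _ s
    have h0 : homOf s ≫ π = 0 := by
      rw [← h1, Category.assoc, show p ≫ π = 0 from cokernel.condition p, comp_zero]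
    have h2 := congrArg (fun φ : Coh.structureModule X ⟶ C => val φ ⊤) h0
    simp only [TMul.val_comp, val_homOf, res_self] at h2
    exact h2.trans rfl
  -- cohomology counts
  haveI := Groth.Agent.CohFinite.finite_proper k X ω hω 1
  haveI := Groth.Agent.CohFinite.finite_proper k X (kernel π) hG 1
  haveI := Groth.Agent.CohFinite.finite_proper k X Q hQ 0
  haveI := Groth.Agent.CohFinite.finite_proper k X F hF 0
  have hω1 : Module.finrank k (Coh.HH X ω 1) ≤ 1 :=
    (LinearMap.finrank_le_finrank_of_injective (trace_injective k ht hω.1 hend)).trans (Module.finrank_self k).le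
  have hP0 : ∀ z : Coh.HH X F 0, hhMap k π 0 z = 0 := fun z => by
    refine (GaetaGen.Vanish.g0 _).injective ?_
    rw [map_zero]
    exact (GaetaGen.Vanish.g0_map π z).trans (hπs _)
  -- a global section with nonzero generic germ
  obtain ⟨s₀, hs₀⟩ : ∃ s₀ : Γ(F, ⊤), s₀ ≠ 0 := by
    by_contra h
    haveI : Subsingleton Γ(F, ⊤) := subsingleton_of_forall_eq 0 fun s => not_not.1 fun h' => h ⟨s, h'⟩
    haveI : Subsingleton (Coh.HH X F 0) := (GaetaGen.Vanish.g0 F).injective.subsingleton
    have e := (hhδ k hex 0).finrank_range_add_finrank_ker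
    rw [← CurveRR.range_g_eq_ker_δ hex 0, show LinearMap.range (hhMap k g 0) = ⊥ from
      LinearMap.range_eq_bot.2 (LinearMap.ext fun x => by rw [Subsingleton.elim x 0, map_zero]; rfl), finrank_bot,
      add_zero] at e
    have h2 : 2 ≤ 1 := hQ2.trans ((e.symm.trans_le (Submodule.finrank_le _)).trans hω1)
    omega
  have hsη : mgerm F (U := ⊤) (x := η) trivial s₀ ≠ 0 := fun h => hs₀ (eq_zero_of_generic htf (U := ⊤) trivial s₀ h)
  have hCη : Subsingleton (C.presheaf.stalk η) := by
    refine subsingleton_of_forall_eq 0 fun m => ?_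
    obtain ⟨U, hU, t, rfl⟩ := C.presheaf.exists_germ_eq (x := η) m
    obtain ⟨V, hV, hηV, t', ht'⟩ := TMul.exists_app_eq_of_epi π t hU
    obtain ⟨c, hc⟩ := hFone _ (mgerm F hηV t') hsη
    change mgerm C hU t = 0
    rw [← mgerm_res C hV hηV t, ← ht', ← stalkHom_germ, hc, WeakAssLib.stalkHom_smul, stalkHom_germ, hπs, map_zero,
      smul_zero]
  have hclC : IsClosed (CohB1.support C) := Groth.Agent.QC.isClosed_support hC.2
  have hdC : topologicalKrullDim (CohB1.support C) ≤ 0 :=
    CurveRR.dim_le_zero_of_closed hdim.le hclC (fun h => h hCη)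
  have hC1 : ∀ i, 1 ≤ i → Subsingleton (Coh.HH X C i) := fun i hi =>
    SuppZero.subsingleton_hh_of_supported hclC hdC _ (fun _ h => h) i hi
  haveI := Groth.Agent.CohFinite.finite_proper k X C hC 0
  have hdG : Module.finrank k (Coh.HH X (kernel π) 1) = Module.finrank k (Coh.HH X C 0) := by
    have e := (hhδ k hS 0).finrank_range_add_finrank_ker
    rw [CurveRR.range_δ_eq_ker_f hS 0, ← CurveRR.range_g_eq_ker_δ hS 0,
      show LinearMap.range (hhMap k π 0) = ⊥ from LinearMap.range_eq_bot.2 (LinearMap.ext hP0), finrank_bot,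
      show LinearMap.ker (hhMap k (kernel.ι π) 1) = ⊤ from
        LinearMap.ker_eq_top.2 (LinearMap.ext fun x => @Subsingleton.elim _ hF1 _ _), finrank_top] at e
    omega
  have hdC0 : 0 < Module.finrank k (Coh.HH X C 0) := by
    obtain ⟨U, s, hs⟩ : ∃ (U : X.Opens) (s : Γ(F, U)), π.app U s ≠ 0 := by
      by_contra h
      exact hπ0 (Scheme.Modules.hom_ext _ _ fun U => ConcreteCategory.hom_ext _ _ fun s =>
        (not_not.1 fun h' => h ⟨U, s, h'⟩).trans rfl)
    obtain ⟨a, ha⟩ := SuppZero.exists_extend_global C (SuppZero.isClosed_of_subset hclC hdC) U (π.app U s)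
    haveI : Nontrivial (Coh.HH X C 0) := nontrivial_of_ne ((GaetaGen.Vanish.g0 C).symm a) 0 fun h => hs (by
      have h2 := congrArg (GaetaGen.Vanish.g0 C) h
      rw [AddEquiv.apply_symm_apply, map_zero] at h2
      rw [← ha, h2, map_zero])
    exact Module.finrank_pos
  obtain ⟨φ, hφ⟩ : ∃ φ : kernel π ⟶ ω, φ ≠ 0 := by
    by_contra h
    haveI := CurveRR.subsingleton_hh_of_hom ht hG.1 fun φ => not_not.1 fun h' => h ⟨φ, h'⟩
    rw [Module.finrank_zero_of_subsingleton] at hdG
    omega
  have hGone : ∀ u v : (kernel π).presheaf.stalk η, u ≠ 0 → ∃ c : X.presheaf.stalk η, v = c • u := fun u v hu => by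
    have hinj := WeakAssLib.stalkHom_injective (kernel.ι π) η
    obtain ⟨c, hc⟩ := hFone (stalkHom (kernel.ι π) η u) (stalkHom (kernel.ι π) η v)
      fun h => hu (hinj (h.trans (map_zero _).symm))
    exact ⟨c, hinj (by rw [hc, WeakAssLib.stalkHom_smul])⟩
  have hφinj : ∀ (U : X.Opens) (s : Γ(kernel π, U)), φ.app U s = 0 → s = 0 := fun U s hs => by
    by_cases hU : η ∈ U
    swap
    · refine section_eq_of_locally fun y hy => absurd ?_ hU
      exact ((genericPoint_spec X).mem_open_set_iff U.2).mpr (by simpa using ⟨y, hy⟩)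
    refine Groth.Agent.QC.app_injective_of_mono (kernel.ι π) U ((eq_zero_of_generic htf hU _ ?_).trans (map_zero _).symm)
    rw [← stalkHom_germ]
    by_contra hne'
    have hu : mgerm (kernel π) hU s ≠ 0 := fun h => hne' (by rw [h, map_zero])
    refine hφ (Scheme.Modules.hom_ext _ _ fun V => ConcreteCategory.hom_ext _ _ fun t => ?_)
    by_cases hV : η ∈ V
    swap
    · refine (section_eq_of_locally (t := (0 : Γ(ω, V))) fun y hy => absurd ?_ hV).trans rfl
      exact ((genericPoint_spec X).mem_open_set_iff V.2).mpr (by simpa using ⟨y, hy⟩)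
    refine (hωtf hV _ ?_).trans rfl
    obtain ⟨c, hc⟩ := hGone _ (mgerm (kernel π) hV t) hu
    rw [← stalkHom_germ, hc, WeakAssLib.stalkHom_smul, stalkHom_germ, hs, map_zero, smul_zero]
  haveI : Mono φ := (Groth.Agent.QC.mono_iff_app_injective φ).2 fun U =>
    (injective_iff_map_eq_zero _).2 (hφinj U)
  have hT : Coh.IsCoh (cokernel φ) :=
    Groth.Agent.QC.isCoh_of_epi hω (Groth.Agent.QC.isQCoh_cokernel hG.1 hω.1 φ) (cokernel.π φ)
  have hTη : Subsingleton ((cokernel φ).presheaf.stalk η) := by
    refine subsingleton_of_forall_eq 0 fun m => ?_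
    obtain ⟨U, hU, t, rfl⟩ := (cokernel φ).presheaf.exists_germ_eq (x := η) m
    obtain ⟨V, hV, hηV, t', ht'⟩ := TMul.exists_app_eq_of_epi (cokernel.π φ) t hU
    obtain ⟨W, s, hsW⟩ : ∃ (W : X.Opens) (s : Γ(kernel π, W)), φ.app W s ≠ 0 := by
      by_contra h
      exact hφ (Scheme.Modules.hom_ext _ _ fun W => ConcreteCategory.hom_ext _ _ fun s =>
        (not_not.1 fun h' => h ⟨W, s, h'⟩).trans rfl)
    have hW : η ∈ W := by
      by_contra h
      refine hsW (section_eq_of_locally fun y hy => absurd ?_ h)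
      exact ((genericPoint_spec X).mem_open_set_iff W.2).mpr (by simpa using ⟨y, hy⟩)
    obtain ⟨c, hc⟩ := hone (mgerm ω hW (φ.app W s)) (mgerm ω hηV t') fun h => hsW (hωtf hW _ h)
    change mgerm (cokernel φ) hU t = 0
    rw [← mgerm_res _ hV hηV t, ← ht', ← stalkHom_germ, hc, WeakAssLib.stalkHom_smul, stalkHom_germ,
      show (cokernel.π φ).app W (φ.app W s) = (φ ≫ cokernel.π φ).app W s from rfl, cokernel.condition]
    simp
  have hclT : IsClosed (CohB1.support (cokernel φ)) := Groth.Agent.QC.isClosed_support hT.2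
  have hdT : topologicalKrullDim (CohB1.support (cokernel φ)) ≤ 0 :=
    CurveRR.dim_le_zero_of_closed hdim.le hclT (fun h => h hTη)
  have hT1 : ∀ i, 1 ≤ i → Subsingleton (Coh.HH X (cokernel φ) i) := fun i hi =>
    SuppZero.subsingleton_hh_of_supported hclT hdT _ (fun _ h => h) i hi
  have hST : (ShortComplex.mk φ (cokernel.π φ) (cokernel.condition φ)).ShortExact :=
    { exact := ShortComplex.exact_of_g_is_cokernel _ (cokernelIsCokernel φ) }
  haveI := Groth.Agent.CohFinite.finite_proper k X (cokernel φ) hT 0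
  have hle : Module.finrank k (Coh.HH X (kernel π) 1) ≤ Module.finrank k (Coh.HH X (cokernel φ) 0) + 1 := by
    have e := (hhMap k φ 1).finrank_range_add_finrank_ker
    have e1 : Module.finrank k (LinearMap.ker (hhMap k φ 1)) ≤ Module.finrank k (Coh.HH X (cokernel φ) 0) := by
      rw [← CurveRR.range_δ_eq_ker_f hST 0]
      exact LinearMap.finrank_range_le _
    have e2 : Module.finrank k (LinearMap.range (hhMap k φ 1)) ≤ Module.finrank k (Coh.HH X ω 1) := Submodule.finrank_le _
    omega
  -- Euler characteristics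
  have a1 := CurveRR.euler_add (k := k) hex hω hF hQ
  have a2 := CurveRR.euler_add (k := k) hS hG hF hC
  have a3 := CurveRR.euler_add (k := k) hST hG hω hT
  dsimp only at a1 a2 a3
  have b1 : Curv2.euler k X Q = CurveRR.h k Q 0 := CurveRR.euler_eq_h0 fun i hi =>
    SuppZero.subsingleton_hh_of_supported hclQ hQ0 _ (fun _ h => h) i hi
  have b2 : Curv2.euler k X C = CurveRR.h k C 0 := CurveRR.euler_eq_h0 hC1
  have b3 : Curv2.euler k X (cokernel φ) = CurveRR.h k (cokernel φ) 0 := CurveRR.euler_eq_h0 hT1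
  simp only [CurveRR.h] at b1 b2 b3
  omega

end Groth.Agent.DefAmple
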